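import Groth.Agent.Lib.FibreDimAt6.Flat
import Groth.Agent.Lib.FibreDimAt6.Pieces
import Groth.Agent.Lib.AffDom.LocalDim
import Groth.Agent.Lib.AffDom.FibreDim
import Groth.Agent.Lib.Dim.Scheme
import Mathlib.RingTheory.Flat.TorsionFree

/-!
# Generisations of fibre-generic points over valuation rings
-/

set_option autoImplicit false
set_option linter.style.haveILetI false

universe u

open CategoryTheory CategoryTheory.Limits AlgebraicGeometry

namespace GrothLib.FibreGen6

theorem flat_quotient_valuation {R A : Type u} [CommRing R] [IsDomain R] [ValuationRing R] [CommRing A] [IsDomain A]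
    (p : Ideal R) [p.IsPrime] [Algebra (R ⧸ p) A] (hinj : Function.Injective (algebraMap (R ⧸ p) A)) :
    Module.Flat (R ⧸ p) A := by
  haveI : PreValuationRing (R ⧸ p) := PreValuationRing.iff_dvd_total.2 ⟨fun a b => by
    obtain ⟨a, rfl⟩ := Ideal.Quotient.mk_surjective a
    obtain ⟨b, rfl⟩ := Ideal.Quotient.mk_surjective b
    exact ((PreValuationRing.iff_dvd_total.1 inferInstance).total a b).imp
      (map_dvd (Ideal.Quotient.mk p)) (map_dvd (Ideal.Quotient.mk p))⟩
  haveI : ValuationRing (R ⧸ p) := { }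
  rw [Module.Flat.flat_iff_torsion_eq_bot_of_isBezout, eq_bot_iff]
  rintro a ⟨⟨c, hc⟩, hca⟩
  have hca' : c • a = 0 := hca
  rw [Algebra.smul_def] at hca'
  refine (Submodule.mem_bot _).2 ((mul_eq_zero.1 hca').resolve_left fun h => ?_)
  exact (nonZeroDivisors.ne_zero hc) (hinj (h.trans (map_zero _).symm))

variable (R : Type u) [CommRing R] [IsDomain R] [ValuationRing R] {X : Scheme.{u}}

/-- Over a valuation ring, the dimension of a point in its fibre can only drop on specialisation. -/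
theorem ptDim_le_of_specializes (φ : X ⟶ Spec (CommRingCat.of R)) [LocallyOfFiniteType φ] {x x' : X}
    (h : x' ⤳ x) :
    GrothLib.AffDom.ptDim (φ.asFiber x) ≤ GrothLib.AffDom.ptDim (φ.asFiber x') := by
  obtain ⟨_, ⟨(W : X.Opens), hW, rfl⟩, hxW, -⟩ :=
    X.isBasis_affineOpens.exists_subset_of_mem_open (Set.mem_univ x) isOpen_univ
  obtain ⟨q, hq⟩ := hW.range_fromSpec.ge hxW
  obtain ⟨q', hq'⟩ := hW.range_fromSpec.ge (h.mem_open W.2 hxW)
  obtain ⟨ψ, hψ⟩ := Spec.map_surjective (hW.fromSpec ≫ φ)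
  have hψft : ψ.hom.FiniteType := by
    have : LocallyOfFiniteType (Spec.map ψ) := hψ ▸ inferInstance
    exact (HasRingHomProperty.Spec_iff (P := @LocallyOfFiniteType)).mp this
  let p : Ideal R := q'.asIdeal.comap ψ.hom
  let ψ' : R ⧸ p →+* Γ(X, W) ⧸ q'.asIdeal :=
    Ideal.Quotient.lift p ((Ideal.Quotient.mk _).comp ψ.hom) fun r hr =>
      Ideal.Quotient.eq_zero_iff_mem.2 hr
  have hinj : Function.Injective ψ' := by
    refine RingHom.lift_injective_of_ker_le_ideal _ _ fun r hr => ?_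
    exact (Ideal.Quotient.eq_zero_iff_mem (I := q'.asIdeal)).1 hr
  let g : Spec (CommRingCat.of (Γ(X, W) ⧸ q'.asIdeal)) ⟶ Spec (CommRingCat.of (R ⧸ p)) :=
    Spec.map (CommRingCat.ofHom ψ')
  haveI : Flat g := by
    refine Flat.SpecMap_iff.mpr ?_
    letI := ψ'.toAlgebra
    exact flat_quotient_valuation p hinj
  haveI : LocallyOfFiniteType g := (HasRingHomProperty.Spec_iff (P := @LocallyOfFiniteType)).2 (by
    show ψ'.FiniteType
    refine RingHom.FiniteType.of_comp_finiteType (f := Ideal.Quotient.mk p) ?_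
    show ((Ideal.Quotient.mk q'.asIdeal).comp ψ.hom).FiniteType
    exact RingHom.FiniteType.comp
      (RingHom.FiniteType.of_surjective (Ideal.Quotient.mk q'.asIdeal) Ideal.Quotient.mk_surjective) hψft)
  let σ : Spec (CommRingCat.of (R ⧸ p)) ⟶ Spec (CommRingCat.of R) :=
    Spec.map (CommRingCat.ofHom (Ideal.Quotient.mk p))
  let j : Spec (CommRingCat.of (Γ(X, W) ⧸ q'.asIdeal)) ⟶ X :=
    Spec.map (CommRingCat.ofHom (Ideal.Quotient.mk q'.asIdeal)) ≫ hW.fromSpec
  have hj : j ≫ φ = g ≫ σ := by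
    simp only [j, g, σ, Category.assoc, ← hψ, ← Spec.map_comp, ← CommRingCat.ofHom_comp]
    rfl
  have hemb : Topology.IsEmbedding j :=
    hW.fromSpec.isEmbedding.comp
      (PrimeSpectrum.isClosedEmbedding_comap_of_surjective _ _ Ideal.Quotient.mk_surjective).isEmbedding
  have hrange : Set.range j = (W : Set X) ∩ {y | x' ⤳ y} := by
    ext y
    constructor
    · rintro ⟨w, rfl⟩
      refine ⟨hW.range_fromSpec.le ⟨_, rfl⟩, ?_⟩
      show x' ⤳ hW.fromSpec (PrimeSpectrum.comap (Ideal.Quotient.mk q'.asIdeal) w)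
      rw [← hq']
      refine ((PrimeSpectrum.le_iff_specializes _ _).1 ?_).map hW.fromSpec.continuous
      intro r hr
      show Ideal.Quotient.mk q'.asIdeal r ∈ w.asIdeal
      rw [Ideal.Quotient.eq_zero_iff_mem.2 hr]
      exact w.asIdeal.zero_mem
    · rintro ⟨hyW, hy⟩
      obtain ⟨r, rfl⟩ := hW.range_fromSpec.ge hyW
      rw [← hq'] at hy
      have hle := (PrimeSpectrum.le_iff_specializes _ _).2 (hW.fromSpec.isEmbedding.isInducing.specializes_iff.1 hy)
      obtain ⟨w, hw⟩ : r ∈ Set.range (PrimeSpectrum.comap (Ideal.Quotient.mk q'.asIdeal)) := by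
        rw [range_comap_of_surjective _ _ Ideal.Quotient.mk_surjective, Ideal.mk_ker]
        exact (PrimeSpectrum.mem_zeroLocus _ _).2 hle
      exact ⟨w, congrArg hW.fromSpec hw⟩
  obtain ⟨z, hz⟩ := hrange.ge ⟨hxW, h⟩
  obtain ⟨z', hz'⟩ := hrange.ge ⟨h.mem_open W.2 hxW, specializes_rfl⟩
  have hsp : z' ⤳ z := hemb.isInducing.specializes_iff.1 (by rw [hz, hz']; exact h)
  have hdim := GrothLib.FibreDimAt6.dim_fiber_le_of_specializes g (hsp.map g.continuous)
  rw [← GrothLib.AffDom.topologicalKrullDim_fiber, ← GrothLib.AffDom.topologicalKrullDim_fiber] at hdim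
  have key : ∀ w : Spec (CommRingCat.of (Γ(X, W) ⧸ q'.asIdeal)),
      topologicalKrullDim (g ⁻¹' {g w} : Set _) =
        topologicalKrullDim ((W : Set X) ∩ {y | x' ⤳ y} ∩ φ ⁻¹' {φ (j w)} : Set X) := by
    intro w
    refine GrothLib.Dim.IsEmbedding.topologicalKrullDim_eq (f := fun v : (g ⁻¹' {g w} : Set _) => j v.1)
      (hemb.comp Topology.IsEmbedding.subtypeVal) ?_
    have hσ : Function.Injective σ :=
      PrimeSpectrum.comap_injective_of_surjective _ Ideal.Quotient.mk_surjective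
    have he : ∀ v, φ (j v) = σ (g v) := fun v => by
      rw [← Scheme.Hom.comp_apply, hj, Scheme.Hom.comp_apply]
    ext y
    constructor
    · rintro ⟨⟨v, hv⟩, rfl⟩
      exact ⟨hrange.le ⟨v, rfl⟩, by rw [Set.mem_preimage, Set.mem_singleton_iff, he, he, show g v = g w from hv]⟩
    · rintro ⟨hy, hyφ⟩
      obtain ⟨v, rfl⟩ := hrange.ge hy
      rw [Set.mem_preimage, Set.mem_singleton_iff, he, he] at hyφ
      exact ⟨⟨v, hσ hyφ⟩, rfl⟩
  rw [key, key, hz, hz'] at hdim
  haveI : LocallyOfFiniteType (φ.fiberToSpecResidueField (φ x)) :=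
    MorphismProperty.pullback_snd φ _ inferInstance
  obtain ⟨n, hn, hnU⟩ := GrothLib.Dim.exists_nat_dim_irreducible
    (K := (Spec (CommRingCat.of R)).residueField (φ x)) (φ.fiberToSpecResidueField (φ x))
    (S := closure {φ.asFiber x}) isClosed_closure isIrreducible_singleton.closure
  have hlow : GrothLib.AffDom.ptDim (φ.asFiber x) ≤
      topologicalKrullDim ((W : Set X) ∩ {y | x' ⤳ y} ∩ φ ⁻¹' {φ x} : Set X) := by
    rw [GrothLib.AffDom.ptDim, hn, ← hnU (φ.fiberι (φ x) ⁻¹ᵁ W) ⟨φ.asFiber x, subset_closure rfl,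
      show φ.fiberι (φ x) (φ.asFiber x) ∈ W by rw [φ.fiberι_asFiber]; exact hxW⟩]
    refine Topology.IsInducing.topologicalKrullDim_le
      (f := fun w : (closure {φ.asFiber x} ∩ (φ.fiberι (φ x) ⁻¹ᵁ W : Set _) : Set (φ.fiber (φ x))) =>
        (⟨φ.fiberι (φ x) w.1, ⟨w.2.2, h.trans ?_⟩, (φ.range_fiberι (φ x)).le ⟨_, rfl⟩⟩ :
          ((W : Set X) ∩ {y | x' ⤳ y} ∩ φ ⁻¹' {φ x} : Set X))) ?_
    · have := (specializes_iff_mem_closure.2 w.2.1).map (φ.fiberι (φ x)).continuous
      rwa [φ.fiberι_asFiber] at this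
    · refine Topology.IsInducing.of_comp ?_ continuous_subtype_val
        ((φ.fiberι (φ x)).isEmbedding.isInducing.comp Topology.IsInducing.subtypeVal)
      exact ((φ.fiberι (φ x)).continuous.comp continuous_subtype_val).subtype_mk _
  have hhigh : topologicalKrullDim ((W : Set X) ∩ {y | x' ⤳ y} ∩ φ ⁻¹' {φ x'} : Set X) ≤
      GrothLib.AffDom.ptDim (φ.asFiber x') := by
    choose w hw using fun y : ((W : Set X) ∩ {y | x' ⤳ y} ∩ φ ⁻¹' {φ x'} : Set X) =>
      (φ.range_fiberι (φ x')).ge y.2.2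
    refine Topology.IsInducing.topologicalKrullDim_le
      (f := fun y => (⟨w y, specializes_iff_mem_closure.1
        ((φ.fiberι (φ x')).isEmbedding.isInducing.specializes_iff.1
          ((specializes_of_eq (φ.fiberι_asFiber x')).trans (y.2.1.2.trans (specializes_of_eq (hw y).symm))))⟩ :
        (closure {φ.asFiber x'} : Set (φ.fiber (φ x'))))) ?_
    have hind : Topology.IsInducing (fun v : (closure {φ.asFiber x'} : Set (φ.fiber (φ x'))) =>
        φ.fiberι (φ x') v.1) := (φ.fiberι (φ x')).isEmbedding.isInducing.comp Topology.IsInducing.subtypeVal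
    rw [← hind.of_comp_iff]
    convert Topology.IsInducing.subtypeVal using 1
    exact funext hw
  exact hlow.trans (hdim.trans hhigh)

/-- Over a valuation ring, generisations of fibre-generic points are fibre-generic. -/
theorem fibreGeneric_of_specializes (φ : X ⟶ Spec (CommRingCat.of R)) [Flat φ] [LocallyOfFinitePresentation φ]
    {x x' : X} (hgen : x' ⤳ x) (hx : ∀ y : X, φ y = φ x → y ⤳ x → y = x) :
    ∀ y : X, y ⤳ x' → φ y = φ x' → y = x' := by
  obtain ⟨d, U, hxU, hU⟩ := GrothLib.FibreDimAt6.exists_open_fibreDimAt_eq φ x hx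
  have hsplit : ∀ z : X, FlatMor.fibreDimAt φ z = GrothLib.AffDom.ptDim (φ.asFiber z) +
      ringKrullDim ((φ.fiber (φ z)).presheaf.stalk (φ.asFiber z)) := fun z =>
    haveI : LocallyOfFiniteType (φ.fiberToSpecResidueField (φ z)) :=
      MorphismProperty.pullback_snd φ _ inferInstance
    GrothLib.AffDom.localDim_eq (K := (Spec (CommRingCat.of R)).residueField (φ z))
      (φ.fiberToSpecResidueField (φ z)) (φ.asFiber z)
  have hx0 : ringKrullDim ((φ.fiber (φ x)).presheaf.stalk (φ.asFiber x)) = 0 := by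
    refine le_antisymm ?_ ringKrullDim_nonneg_of_nontrivial
    haveI : Subsingleton (PrimeSpectrum ((φ.fiber (φ x)).presheaf.stalk (φ.asFiber x))) := ⟨fun a b => by
      apply ((φ.fiber (φ x)).fromSpecStalk (φ.asFiber x)).isEmbedding.injective
      have key : ∀ c, (φ.fiber (φ x)).fromSpecStalk (φ.asFiber x) c = φ.asFiber x := fun c => by
        have hs := ((φ.fiber (φ x)).range_fromSpecStalk (x := φ.asFiber x)).le ⟨c, rfl⟩
        apply (φ.fiberι (φ x)).isEmbedding.injective
        rw [φ.fiberι_asFiber]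
        exact hx _ ((φ.range_fiberι (φ x)).le ⟨_, rfl⟩)
          ((hs.map (φ.fiberι (φ x)).continuous).trans (specializes_of_eq (φ.fiberι_asFiber x)))
      exact (key a).trans (key b).symm⟩
    exact Order.krullDim_nonpos_of_subsingleton
  have h1 := (hsplit x).symm.trans (hU x hxU)
  rw [hx0, add_zero] at h1
  have h2 := (hsplit x').symm.trans (hU x' (hgen.mem_open U.2 hxU))
  have h3 := ptDim_le_of_specializes R φ hgen
  rw [h1] at h3
  have hz : ringKrullDim ((φ.fiber (φ x')).presheaf.stalk (φ.asFiber x')) ≤ 0 := by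
    haveI : LocallyOfFiniteType (φ.fiberToSpecResidueField (φ x')) :=
      MorphismProperty.pullback_snd φ _ inferInstance
    obtain ⟨m, hm⟩ := GrothLib.AffDom.exists_nat_ptDim (K := (Spec (CommRingCat.of R)).residueField (φ x'))
      (φ.fiberToSpecResidueField (φ x')) (φ.asFiber x')
    rw [hm] at h2 h3
    have hmd : d ≤ m := by exact_mod_cast h3
    cases hb : ringKrullDim ((φ.fiber (φ x')).presheaf.stalk (φ.asFiber x')) with
    | bot => exact bot_le
    | coe v =>
      rw [hb] at h2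
      have h4 : (m : ℕ∞) + v = (d : ℕ∞) := by exact_mod_cast h2
      cases v with
      | top => simp at h4
      | coe k =>
        have h5 : m + k = d := by exact_mod_cast h4
        have : k = 0 := by omega
        subst this
        exact le_rfl
  intro y hy hφy
  obtain ⟨y', rfl⟩ := (φ.range_fiberι (φ x')).ge hφy
  have hy' : y' ⤳ φ.asFiber x' := (φ.fiberι (φ x')).isEmbedding.isInducing.specializes_iff.1
    (hy.trans (specializes_of_eq (φ.fiberι_asFiber x').symm))
  obtain ⟨c, hc⟩ := ((φ.fiber (φ x')).range_fromSpecStalk (x := φ.asFiber x')).ge hy'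
  haveI : Ring.KrullDimLE 0 ((φ.fiber (φ x')).presheaf.stalk (φ.asFiber x')) :=
    Ring.krullDimLE_iff.2 (by exact_mod_cast hz)
  have : c = IsLocalRing.closedPoint _ := PrimeSpectrum.ext
    (IsLocalRing.eq_maximalIdeal (Ideal.IsPrime.isMaximal' c.2))
  rw [← hc, this, Scheme.fromSpecStalk_closedPoint, φ.fiberι_asFiber]

end GrothLib.FibreGen6
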